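import Cfsg.Agent.GlaubermanCorr.Extend
import Cfsg.Agent.Char.NormalSub
import Mathlib.GroupTheory.SpecificGroups.Cyclic

/-!
# A fully ramified section under a cyclic Frobenius action

With `r` the order of the acting group, the inner products on the cosets give `e ≡ ±1 [ZMOD r]`.
-/

set_option autoImplicit false
set_option linter.unusedSectionVars false
set_option linter.style.haveILetI false

namespace CfsgLib.RamifiedFrobenius

open Finset Cfsg CfsgLib.Char CfsgLib.GlaubermanCorr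
open scoped ComplexConjugate

universe u

/-- The arithmetic. -/
theorem congr_one {ι : Type*} (s : Finset ι) (m : ι → ℤ) {r e c : ℤ} (hr : 0 < r)
    (hcard : (s.card : ℤ) = r) (hsum : ∑ j ∈ s, m j = e) (hsq : ∑ j ∈ s, m j ^ 2 ≤ c)
    (hc : r * c = e ^ 2 + r - 1) : r ∣ e - 1 ∨ r ∣ e + 1 := by
  obtain ⟨a, ha⟩ : ∃ a : ℤ, a = (2 * e + r) / (2 * r) := ⟨_, rfl⟩
  have h1 : (2 * r) * a ≤ 2 * e + r := ha ▸ Int.mul_ediv_self_le (by omega)
  have h2 : 2 * e + r < (2 * r) * a + 2 * r := by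
    have h := Int.lt_mul_ediv_self_add (x := 2 * e + r) (k := 2 * r) (by omega)
    rwa [← ha] at h
  obtain ⟨e', he'⟩ : ∃ e', e' = e - r * a := ⟨_, rfl⟩
  obtain ⟨c', hc'⟩ : ∃ c', c' = c - 2 * a * e + r * a ^ 2 := ⟨_, rfl⟩
  have hrc : r * c' = e' ^ 2 + r - 1 := by rw [hc', he']; linear_combination hc
  have hb1 : -r ≤ 2 * e' := by rw [he']; linarith
  have hb2 : 2 * e' ≤ r := by rw [he']; linarith
  have hS : ∑ j ∈ s, (m j - a) ^ 2 ≤ c' := by
    have : ∑ j ∈ s, (m j - a) ^ 2 = ∑ j ∈ s, m j ^ 2 - 2 * a * e + r * a ^ 2 := by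
      rw [← hsum, ← hcard, mul_sum, ← sum_sub_distrib, Finset.cast_card, sum_mul, ← sum_add_distrib]
      exact sum_congr rfl fun j _ => by ring
    rw [this, hc']; linarith
  have hE : ∑ j ∈ s, (m j - a) = e' := by
    rw [sum_sub_distrib, hsum, sum_const, nsmul_eq_mul, hcard, he']
  have hp : e' ≤ c' := hE ▸ (sum_le_sum fun j _ => Int.le_self_sq (m j - a)).trans hS
  have hn : -e' ≤ c' := by
    rw [← hE, ← sum_neg_distrib]
    refine (sum_le_sum fun j _ => ?_).trans hS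
    have := Int.le_self_sq (-(m j - a))
    rwa [neg_sq] at this
  rcases le_or_gt 2 e' with h | h
  · exfalso; nlinarith [mul_le_mul_of_nonneg_left hp hr.le]
  rcases le_or_gt e' (-2) with h' | h'
  · exfalso; nlinarith [mul_le_mul_of_nonneg_left hn hr.le]
  obtain rfl | rfl | rfl : e' = -1 ∨ e' = 0 ∨ e' = 1 := by omega
  · exact Or.inr ⟨a, by linarith⟩
  · have : r ∣ 1 := ⟨1 - c', by linarith⟩
    exact Or.inl (this.trans (one_dvd _))
  · exact Or.inl ⟨a, by linarith⟩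

/-- The linear character of a cyclic quotient. -/
theorem exists_cycData {G : Type u} [Group G] [Fintype G] {K : Subgroup G} [K.Normal] {x : G}
    {q : ℕ} [NeZero q] (hgen : ∀ g, ∃ k ∈ K, ∃ i : ℕ, g = k * x ^ i)
    (hmem : ∀ i : ℕ, x ^ i ∈ K ↔ q ∣ i) : ∃ (lam : G →* ℂˣ) (ω : ℂ), CycData K x q lam ω := by
  obtain ⟨y, hy⟩ : ∃ y : G ⧸ K, y = (x : G ⧸ K) := ⟨_, rfl⟩
  have hy' : ∀ i : ℕ, y ^ i = 1 ↔ q ∣ i := fun i => by
    rw [hy, ← QuotientGroup.mk_pow, QuotientGroup.eq_one_iff, hmem]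
  have hord : orderOf y = q :=
    Nat.dvd_antisymm (orderOf_dvd_of_pow_eq_one ((hy' q).2 dvd_rfl))
      ((hy' _).1 (pow_orderOf_eq_one y))
  have hall : ∀ a : G ⧸ K, a ∈ Subgroup.zpowers y := by
    intro a
    induction a using QuotientGroup.induction_on with | _ g =>
    obtain ⟨k, hk, i, rfl⟩ := hgen g
    rw [QuotientGroup.mk_mul, (QuotientGroup.eq_one_iff k).mpr hk, one_mul, QuotientGroup.mk_pow, hy]
    exact Subgroup.npow_mem_zpowers _ i
  have hω : IsPrimitiveRoot (Complex.exp (2 * Real.pi * Complex.I / q)) q :=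
    Complex.isPrimitiveRoot_exp q (NeZero.ne q)
  obtain ⟨ω, hωdef⟩ : ∃ ω : ℂ, ω = Complex.exp (2 * Real.pi * Complex.I / q) := ⟨_, rfl⟩
  rw [← hωdef] at hω
  let u : ℂˣ := Units.mk0 ω (hω.ne_zero (NeZero.ne q))
  have hu : IsPrimitiveRoot u q := IsPrimitiveRoot.coe_units_iff.mp hω
  let lam0 := monoidHomOfForallMemZpowers hall
    (show orderOf u ∣ orderOf y by rw [hord, ← hu.eq_orderOf])
  have hlam0 : lam0 y = u := monoidHomOfForallMemZpowers_apply_gen hall _
  refine ⟨lam0.comp (QuotientGroup.mk' K), ω, hω, ?_, fun g => ?_, hgen⟩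
  · change ((lam0 (x : G ⧸ K) : ℂˣ) : ℂ) = ω
    rw [← hy, hlam0]
    rfl
  · rw [← QuotientGroup.eq_one_iff]
    change lam0 (g : G ⧸ K) = 1 ↔ _
    obtain ⟨k, hk, i, rfl⟩ := hgen g
    rw [QuotientGroup.mk_mul, (QuotientGroup.eq_one_iff k).mpr hk, one_mul, QuotientGroup.mk_pow,
      ← hy, map_pow, hlam0, hy', ← orderOf_dvd_iff_pow_eq_one, ← hu.eq_orderOf]

variable {Γ : Type u} [Group Γ] [Fintype Γ] {G N : Subgroup Γ} [hG : G.Normal] [hN : N.Normal]
  [Fintype G] [Fintype N]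

/-- Averaging a class function over a coset moved fixed-point-freely. -/
theorem sum_coset (hNG : N ≤ G)
    (hfrob : ∀ x : Γ, x ∉ G → ∀ g : Γ, g ∈ G → x * g * x⁻¹ * g⁻¹ ∈ N → g ∈ N) {F : Γ → ℂ}
    (hF : Cfsg.IsClassFunction Γ F) {y : Γ} (hy : y ∉ G) :
    (Nat.card N : ℂ) * ∑ g : G, F (g * y) = (Nat.card G : ℂ) * ∑ n : N, F (n * y) := by
  classical
  have hc : ∀ h : G, (h : Γ) * y * (h : Γ)⁻¹ * y⁻¹ ∈ G := fun h => by
    rw [mul_assoc (h : Γ) y, mul_assoc (h : Γ)]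
    exact G.mul_mem h.2 (hG.conj_mem _ (G.inv_mem h.2) y)
  have hrep : ∀ h : Γ, ((h : Γ ⧸ N).out)⁻¹ * h ∈ N := fun h => by
    rw [← QuotientGroup.eq, QuotientGroup.out_eq']
  have hmem : ∀ p : G × N, (p.1 : Γ) * p.2 * (p.1 : Γ)⁻¹ * ((p.1 : Γ) * y * (p.1 : Γ)⁻¹ * y⁻¹) ∈ G := fun p =>
    G.mul_mem (hNG (hN.conj_mem _ p.2.2 _)) (hc p.1)
  obtain ⟨Ψ, hΨ⟩ : ∃ Ψ : G × N → G × N, ∀ p, Ψ p = (⟨_, hmem p⟩, ⟨_, hrep (p.1 : Γ)⟩) :=
    ⟨_, fun _ => rfl⟩
  have hinj : Function.Injective Ψ := by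
    rintro ⟨h, n⟩ ⟨h', n'⟩ he
    rw [hΨ, hΨ, Prod.mk.injEq, Subtype.mk.injEq, Subtype.mk.injEq] at he
    obtain ⟨he1, he2⟩ := he
    have hN' : ((h' : Γ)⁻¹ * h) ∈ N := by
      refine hfrob y hy _ (G.mul_mem (G.inv_mem h'.2) h.2) ?_
      have e1 := congrArg (fun z : Γ => (z : Γ ⧸ N)) he1
      simp only [QuotientGroup.mk_mul, QuotientGroup.mk_inv, (QuotientGroup.eq_one_iff _).2 n.2,
        (QuotientGroup.eq_one_iff _).2 n'.2, mul_one, mul_inv_cancel, one_mul] at e1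
      rw [← QuotientGroup.eq_one_iff]
      simp only [QuotientGroup.mk_mul, QuotientGroup.mk_inv, mul_inv_rev, inv_inv]
      have e2 := mul_right_cancel e1
      calc (y : Γ ⧸ N) * ((h' : Γ ⧸ N)⁻¹ * h) * (y : Γ ⧸ N)⁻¹ * ((h : Γ ⧸ N)⁻¹ * h')
          = y * (h' : Γ ⧸ N)⁻¹ * ((h : Γ ⧸ N) * (y : Γ ⧸ N) * (h : Γ ⧸ N)⁻¹)⁻¹ * h' := by group
        _ = 1 := by rw [e2]; group
    have heq : ((h : Γ) : Γ ⧸ N) = ((h' : Γ) : Γ ⧸ N) := (QuotientGroup.eq.2 hN').symm
    rw [heq] at he2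
    have hh : h = h' := Subtype.ext (mul_left_cancel he2)
    subst hh
    have hn : (n : Γ) = n' := mul_left_cancel (mul_right_cancel (mul_right_cancel he1))
    exact Prod.ext rfl (Subtype.ext hn)
  have hbij := Finite.injective_iff_bijective.1 hinj
  have h1 := Fintype.sum_bijective Ψ hbij (fun p : G × N => F ((p.2 : Γ) * y))
    (fun p : G × N => F ((p.1 : Γ) * y)) fun p => by
      rw [hΨ]
      simp only
      rw [show (p.1 : Γ) * p.2 * (p.1 : Γ)⁻¹ * ((p.1 : Γ) * y * (p.1 : Γ)⁻¹ * y⁻¹) * y =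
        (p.1 : Γ) * ((p.2 : Γ) * y) * (p.1 : Γ)⁻¹ by group]
      exact (hF _ _).symm
  rw [Fintype.sum_prod_type, Fintype.sum_prod_type] at h1
  simp only [sum_const, card_univ, nsmul_eq_mul, ← Nat.card_eq_fintype_card, ← mul_sum] at h1
  exact h1.symm

theorem main (hNG : N ≤ G) (hGlt : G ≠ ⊤) (hcyc : IsCyclic (Γ ⧸ G))
    (hfrob : ∀ x : Γ, x ∉ G → ∀ g : Γ, g ∈ G → x * g * x⁻¹ * g⁻¹ ∈ N → g ∈ N) {θ : N → ℂ}
    (hθ : Cfsg.IsIrrCharacter N θ)
    (hinv : ∀ (x : Γ) (n : N), θ ⟨x * n * x⁻¹, hN.conj_mem n n.2 x⟩ = θ n) {χ : G → ℂ}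
    (hχ : Cfsg.IsIrrCharacter G χ) (e : ℕ)
    (hram : Cfsg.indFun (N.subgroupOf G) (fun n : N.subgroupOf G => θ ⟨(n : G), n.2⟩) =
      fun g => (e : ℂ) * χ g) :
    (G.index : ℤ) ∣ (e : ℤ) - 1 ∨ (G.index : ℤ) ∣ (e : ℤ) + 1 := by
  classical
  obtain ⟨r, hr⟩ : ∃ r, G.index = r := ⟨_, rfl⟩
  haveI hr0 : NeZero r := ⟨hr ▸ Subgroup.index_ne_zero_of_finite⟩
  rw [hr]
  obtain ⟨y0, hy0⟩ := IsCyclic.exists_generator (α := Γ ⧸ G)
  obtain ⟨x, rfl⟩ := QuotientGroup.mk_surjective y0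
  have hordx : orderOf (x : Γ ⧸ G) = r := by
    rw [orderOf_eq_card_of_forall_mem_zpowers hy0, ← Subgroup.index_eq_card, hr]
  have hmemG : ∀ i : ℕ, x ^ i ∈ G ↔ r ∣ i := fun i => by
    rw [← QuotientGroup.eq_one_iff, QuotientGroup.mk_pow, ← orderOf_dvd_iff_pow_eq_one, hordx]
  have hgenG : ∀ g, ∃ k ∈ G, ∃ i : ℕ, g = k * x ^ i := fun g => by
    obtain ⟨i, hi⟩ := mem_powers_iff_mem_zpowers.2 (hy0 (g : Γ ⧸ G))
    refine ⟨g * (x ^ i)⁻¹, ?_, i, by group⟩
    simp only at hi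
    rw [← QuotientGroup.eq_one_iff, QuotientGroup.mk_mul, QuotientGroup.mk_inv, QuotientGroup.mk_pow,
      hi, mul_inv_cancel]
  have hxG : x ∉ G := fun h => hGlt (eq_top_iff.2 fun g _ => by
    obtain ⟨k, hk, i, rfl⟩ := hgenG g
    exact G.mul_mem hk (G.pow_mem h i))
  have hxr : x ^ r ∈ N := hfrob x hxG _ ((hmemG r).2 dvd_rfl) (by
    rw [← pow_succ', pow_succ, mul_inv_cancel_right, mul_inv_cancel]; exact N.one_mem)
  -- the fully ramified data
  haveI := Fintype.ofFinite (N.subgroupOf G)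
  obtain ⟨θ', hθ'⟩ : ∃ θ' : N.subgroupOf G → ℂ,
      (fun n : N.subgroupOf G => θ ⟨(n : G), n.2⟩) = θ' := ⟨_, rfl⟩
  rw [hθ'] at hram
  have hθ'irr : Cfsg.IsIrrCharacter (N.subgroupOf G) θ' := by
    rw [← hθ']
    exact IsIrrCharacter.comp_surjective hθ (Subgroup.subgroupOfEquivOfLe hNG).toMonoidHom
      (Subgroup.subgroupOfEquivOfLe hNG).surjective
  have hθ'inv : inertia θ' = ⊤ := inertia_eq_top fun g n => by
    rw [← hθ']
    exact hinv (g : Γ) ⟨(n : G), n.2⟩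
  have hnorm := classInner_indFun_self_of_invariant hθ'irr hθ'inv
  rw [hram, show (fun g => (e : ℂ) * χ g) = (e : ℂ) • χ from rfl, classInner_smul_left,
    classInner_smul_right, IsIrrCharacter.classInner_self hχ, Complex.conj_natCast, mul_one] at hnorm
  have he0 : (e : ℂ) ≠ 0 := fun h => by
    rw [h, zero_mul, eq_comm, Nat.cast_eq_zero] at hnorm
    exact Subgroup.index_ne_zero_of_finite hnorm
  have hres : ∀ n : N, χ ⟨n, hNG n.2⟩ = (e : ℂ) * θ n := fun n => by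
    refine mul_left_cancel₀ he0 ?_
    obtain ⟨n', hn'⟩ : ∃ n' : N.subgroupOf G, (n' : G) = ⟨n, hNG n.2⟩ :=
      ⟨⟨⟨n, hNG n.2⟩, n.2⟩, rfl⟩
    have h1 := congrFun (indFun_restrict (G := G) θ') n'
    have h2 := congrFun hram (n' : G)
    rw [Pi.smul_apply, hθ'inv, Subgroup.card_top] at h1
    have horb : conjOrbit θ' = {θ'} :=
      Finset.eq_singleton_iff_unique_mem.2 ⟨self_mem_conjOrbit _, fun φ hφ => by
        obtain ⟨t, rfl⟩ := mem_conjOrbit.1 hφ
        exact (mem_inertia θ' t).1 (hθ'inv ▸ Subgroup.mem_top t)⟩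
    have hval : θ' n' = θ n := by
      rw [← hθ']
      exact congrArg θ (Subtype.ext (congrArg (fun z : G => (z : Γ)) hn' :))
    rw [horb, Finset.sum_singleton, smul_eq_mul, card_div_card_subgroup, h2, ← hnorm, hval, hn'] at h1
    rw [h1]
    ring
  have hcl : Cfsg.IsClassFunction G χ := IsIrrCharacter.isClassFunction hχ
  -- invariance of `χ`
  have hχinv : ∀ k k' : G, (k' : Γ) = x * k * x⁻¹ → χ k' = χ k := by
    intro k k' hk
    refine mul_left_cancel₀ he0 ?_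
    have h1 := congrFun hram k
    have h2 := congrFun hram k'
    rw [← h1, ← h2]
    simp only [Cfsg.indFun]
    congr 1
    refine (Fintype.sum_equiv (MulAut.conjNormal (H := G) x).toEquiv _ _ fun z => ?_).symm
    have hz : ((MulAut.conjNormal (H := G) x).toEquiv z : Γ) = x * z * x⁻¹ := MulAut.conjNormal_apply ..
    have hval : (((MulAut.conjNormal (H := G) x).toEquiv z)⁻¹ * k' * (MulAut.conjNormal (H := G) x).toEquiv z : G) =
        ((x * ((z⁻¹ * k * z : G) : Γ) * x⁻¹ : Γ)) := by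
      simp only [Subgroup.coe_mul, Subgroup.coe_inv, hz, hk]
      group
    by_cases hm : z⁻¹ * k * z ∈ N.subgroupOf G
    · have hm' : ((MulAut.conjNormal (H := G) x).toEquiv z)⁻¹ * k' * (MulAut.conjNormal (H := G) x).toEquiv z ∈
          N.subgroupOf G := by
        rw [Subgroup.mem_subgroupOf] at hm ⊢
        rw [hval]; exact hN.conj_mem _ hm x
      rw [extendByZero_of_mem _ hm, extendByZero_of_mem _ hm', ← hθ']
      refine (((congrArg θ (Subtype.ext hval)).trans (hinv x ⟨_, hm⟩)).symm)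
    · have hm' : ((MulAut.conjNormal (H := G) x).toEquiv z)⁻¹ * k' * (MulAut.conjNormal (H := G) x).toEquiv z ∉
          N.subgroupOf G := by
        rw [Subgroup.mem_subgroupOf] at hm ⊢
        rw [hval]
        intro h
        apply hm
        have := hN.conj_mem _ h x⁻¹
        simpa [mul_assoc] using this
      rw [extendByZero_of_not_mem _ hm, extendByZero_of_not_mem _ hm']
  obtain ⟨lam, ω, hcd⟩ := exists_cycData (q := r) hgenG hmemG
  obtain ⟨ψ, hψ, hψG⟩ := hcd.exists_extension ⟨χ, hχ⟩ hχinv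
  have hψres : Cfsg.IsIrrCharacter G (fun k : G => ψ k) := by
    rw [show (fun k : G => ψ k) = χ from funext hψG]; exact hχ
  have hSi : ∀ i : ZMod r, cosetInner G x ψ ψ i = 1 := fun i => by
    rw [hcd.cosetInner_irr hψ hψ, Finset.sum_eq_single (0 : ZMod r)]
    · rw [if_pos (by ext g; simp [lamPow_zero])]; simp
    · intro j _ hj
      rw [if_neg fun h => hj ((hcd.restrict_irr_iff hψ).1 hψres j h)]
    · simp
  have hψN : ∀ n : N, ψ n = (e : ℂ) * θ n := fun n => (hψG ⟨n, hNG n.2⟩).trans (hres n)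
  -- the subgroup `N⟨x⟩`
  obtain ⟨H, hH⟩ : ∃ H, N ⊔ Subgroup.zpowers x = H := ⟨_, rfl⟩
  have hNH : N ≤ H := hH ▸ le_sup_left
  have hxH : x ∈ H := hH ▸ Subgroup.mem_sup_right (Subgroup.mem_zpowers x)
  obtain ⟨xh, hxh⟩ : ∃ xh : H, (xh : Γ) = x := ⟨⟨x, hxH⟩, rfl⟩
  haveI := Fintype.ofFinite H
  haveI := Fintype.ofFinite (N.subgroupOf H)
  have hgenH : ∀ g : H, ∃ k ∈ N.subgroupOf H, ∃ i : ℕ, g = k * xh ^ i := fun g => by
    have hg : (g : Γ) ∈ ((N ⊔ Subgroup.zpowers x : Subgroup Γ) : Set Γ) := by rw [hH]; exact g.2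
    rw [Subgroup.normal_mul] at hg
    obtain ⟨n, hn, z, hz, hnz⟩ := Set.mem_mul.1 hg
    obtain ⟨i, rfl⟩ := mem_powers_iff_mem_zpowers.2 hz
    exact ⟨⟨n, hNH hn⟩, hn, i, Subtype.ext (by rw [Subgroup.coe_mul, SubgroupClass.coe_pow, hxh]; exact hnz.symm)⟩
  have hmemH : ∀ i : ℕ, xh ^ i ∈ N.subgroupOf H ↔ r ∣ i := fun i => by
    rw [Subgroup.mem_subgroupOf, SubgroupClass.coe_pow, hxh]
    refine ⟨fun h => (hmemG i).1 (hNG h), fun h => ?_⟩
    obtain ⟨d, rfl⟩ := h
    rw [pow_mul]; exact N.pow_mem hxr d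
  obtain ⟨lamH, ωH, hcdH⟩ := exists_cycData (q := r) hgenH hmemH
  obtain ⟨θH, hθH⟩ : ∃ θH : N.subgroupOf H → ℂ,
      (fun n : N.subgroupOf H => θ ⟨(n : H), n.2⟩) = θH := ⟨_, rfl⟩
  have hθHirr : Cfsg.IsIrrCharacter (N.subgroupOf H) θH := by
    rw [← hθH]
    exact IsIrrCharacter.comp_surjective hθ (Subgroup.subgroupOfEquivOfLe hNH).toMonoidHom
      (Subgroup.subgroupOfEquivOfLe hNH).surjective
  obtain ⟨η, hη, hηN⟩ := hcdH.exists_extension ⟨θH, hθHirr⟩ fun k k' hk => by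
    simp only [← hθH]
    have h := hinv x ⟨((k : H) : Γ), k.2⟩
    refine Eq.trans (congrArg θ (Subtype.ext ?_)) h
    have := congrArg Subtype.val hk
    simpa [hxh] using this
  obtain ⟨φ, hφdef⟩ : ∃ φ : H → ℂ, (fun h : H => ψ h) = φ := ⟨_, rfl⟩
  have hφ : Cfsg.IsCharacter H φ :=
    hφdef ▸ IsCharacter.restrict (IsIrrCharacter.isCharacter hψ) H
  choose m hm using fun j : ZMod r =>
    IsCharacter.exists_classInner_eq_natCast hφ (hcdH.isIrr_twist j hη)
  have hmsum : ∑ j, (m j : ℂ) = (e : ℂ) := by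
    have h := hcdH.cosetInner_eq φ η 0
    simp only [zero_mul, ZMod.val_zero, pow_zero, mul_one, hm] at h
    rw [← h, cosetInner_zero]
    have h1 : (fun k : N.subgroupOf H => φ k) = (e : ℂ) • θH := funext fun k => by
      rw [← hφdef, Pi.smul_apply, smul_eq_mul, ← hθH]
      exact hψN ⟨((k : H) : Γ), k.2⟩
    rw [h1, show (fun k : N.subgroupOf H => η k) = θH from funext hηN, classInner_smul_left,
      IsIrrCharacter.classInner_self hθHirr, mul_one]
  obtain ⟨c, hc⟩ := IsCharacter.exists_classInner_eq_natCast' hφ hφ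
  -- the norm over the cosets
  have hcardN : Nat.card (N.subgroupOf H) = Nat.card N :=
    Nat.card_congr (Subgroup.subgroupOfEquivOfLe hNH).toEquiv
  have hS : ∀ i : ZMod r, cosetInner (N.subgroupOf H) xh φ φ i =
      if i = 0 then (e : ℂ) ^ 2 else 1 := by
    intro i
    have hsum : ∑ k : N.subgroupOf H, φ ((k : H) * xh ^ i.val) * conj (φ ((k : H) * xh ^ i.val)) =
        ∑ n : N, ψ (n * x ^ i.val) * conj (ψ (n * x ^ i.val)) :=
      Fintype.sum_equiv (Subgroup.subgroupOfEquivOfLe hNH).toEquiv _ _ fun k => by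
        rw [← hφdef]
        simp [hxh]
    rw [cosetInner, hsum, ← Nat.card_eq_fintype_card, hcardN]
    have hN0 : (Nat.card N : ℂ) ≠ 0 := by exact_mod_cast Nat.card_pos.ne'
    split_ifs with hi
    · subst hi
      have h1 := IsIrrCharacter.classInner_self hθ
      rw [classInner_def] at h1
      simp only [ZMod.val_zero, pow_zero, mul_one, hψN, map_mul, Complex.conj_natCast]
      rw [show ∑ n : N, (e : ℂ) * θ n * ((e : ℂ) * conj (θ n)) = (e : ℂ) ^ 2 * ∑ n : N, θ n * conj (θ n) by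
        rw [mul_sum]; exact sum_congr rfl fun n _ => by ring]
      rw [mul_left_comm, h1, mul_one]
    · have hy : x ^ i.val ∉ G := fun h => hi ((ZMod.val_eq_zero i).1
        (Nat.eq_zero_of_dvd_of_lt ((hmemG _).1 h) i.val_lt))
      have h2 := sum_coset hNG hfrob (F := fun g => ψ g * conj (ψ g)) (fun g a => by
        simp only [IsIrrCharacter.isClassFunction hψ g a]) hy
      have h3 := hSi i
      rw [cosetInner, ← Nat.card_eq_fintype_card] at h3
      have hG0 : (Nat.card G : ℂ) ≠ 0 := by exact_mod_cast Nat.card_pos.ne'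
      have h4 : ∑ g : G, ψ (g * x ^ i.val) * conj (ψ (g * x ^ i.val)) = (Nat.card G : ℂ) := by
        field_simp at h3
        exact h3
      rw [h4, mul_comm] at h2
      rw [inv_mul_eq_iff_eq_mul₀ hN0, mul_one]
      exact (mul_left_cancel₀ hG0 h2).symm
  have hrc : (r : ℂ) * c = (e : ℂ) ^ 2 + r - 1 := by
    have h1 : ∑ i : ZMod r, cosetInner (N.subgroupOf H) xh φ φ i = (r : ℂ) * c := by
      simp only [hcdH.cosetInner_eq]
      rw [sum_comm, Finset.sum_eq_single (0 : ZMod r)]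
      · simp only [mul_zero, ZMod.val_zero, pow_zero, mul_one, sum_const, card_univ, ZMod.card, nsmul_eq_mul]
        rw [show lamPow lamH (0 : ZMod r) * φ = φ from funext fun g => by simp [lamPow_zero], hc]
      · intro j _ hj
        rw [← mul_sum]
        rw [sum_pow_val hcdH.prim, if_neg hj, mul_zero]
      · simp
    rw [← h1, sum_congr rfl fun i _ => hS i]
    simp only [Finset.sum_ite, sum_const, nsmul_eq_mul, Finset.filter_eq', Finset.filter_ne', mem_univ,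
      if_true, card_singleton, Nat.cast_one, one_mul, mul_one, card_erase_of_mem, card_univ, ZMod.card]
    rw [Nat.cast_sub (NeZero.one_le), Nat.cast_one]
    ring
  -- Bessel
  have hbessel : ∑ j, (m j : ℤ) ^ 2 ≤ (c : ℤ) := by
    obtain ⟨f, hf⟩ : ∃ f : H → ℂ, f = φ - ∑ j, (m j : ℂ) • (lamPow lamH j * η) := ⟨_, rfl⟩
    have hon : ∀ j k : ZMod r, Cfsg.classInner (lamPow lamH j * η) (lamPow lamH k * η) =
        if j = k then 1 else 0 := by
      intro j k
      split_ifs with hjk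
      · rw [hjk]; exact IsIrrCharacter.classInner_self (hcdH.isIrr_twist k hη)
      · refine IsIrrCharacter.classInner_of_ne (hcdH.isIrr_twist j hη) (hcdH.isIrr_twist k hη) fun h => hjk ?_
        have hηirr : Cfsg.IsIrrCharacter (N.subgroupOf H) (fun v : N.subgroupOf H => η v) := by
          rw [show (fun v : N.subgroupOf H => η v) = θH from funext hηN]; exact hθHirr
        refine eq_of_sub_eq_zero ((hcdH.restrict_irr_iff hη).1 hηirr (j - k) (funext fun g => ?_))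
        have h1 := congrFun h g
        simp only [Pi.mul_apply] at h1 ⊢
        rw [sub_eq_add_neg, hcdH.lamPow_add, mul_right_comm, h1, mul_right_comm, ← hcdH.lamPow_add,
          add_neg_cancel, lamPow_zero, one_mul]
    have hff : Cfsg.classInner f f = (c : ℂ) - ∑ j, (m j : ℂ) ^ 2 := by
      have hm' : ∀ j, Cfsg.classInner (lamPow lamH j * η) φ = (m j : ℂ) := fun j => by
        rw [← classInner_conj, hm, Complex.conj_natCast]
      rw [hf]
      simp only [classInner_sub_left, classInner_sub_right, classInner_sum_left, classInner_sum_right,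
        classInner_smul_left, classInner_smul_right, Complex.conj_natCast, hon, hm, hm', hc, mul_ite,
        mul_one, mul_zero, Finset.sum_ite_eq', mem_univ, if_true]
      simp [sq]
    have hnn : (0 : ℝ) ≤ (Cfsg.classInner f f).re := by
      rw [classInner_def]
      simp only [Complex.mul_conj', ← Complex.ofReal_natCast, ← Complex.ofReal_pow, ← Complex.ofReal_sum,
        ← Complex.ofReal_inv, ← Complex.ofReal_mul, Complex.ofReal_re]
      positivity
    rw [hff, Complex.sub_re, Complex.natCast_re, Complex.re_sum] at hnn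
    have h1 : ∀ j, ((m j : ℂ) ^ 2).re = ((m j ^ 2 : ℕ) : ℝ) := fun j => by
      rw [← Nat.cast_pow, Complex.natCast_re]
    rw [sum_congr rfl fun j _ => h1 j, ← Nat.cast_sum, sub_nonneg, Nat.cast_le] at hnn
    exact_mod_cast hnn
  refine congr_one Finset.univ (fun j => (m j : ℤ)) (c := (c : ℤ)) (by exact_mod_cast NeZero.pos r)
    (by simp) ?_ hbessel ?_
  · exact_mod_cast hmsum
  · have h1 : ((((r : ℤ) * c) : ℤ) : ℂ) = ((((e : ℤ) ^ 2 + r - 1) : ℤ) : ℂ) := by
      push_cast; exact hrc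
    exact_mod_cast h1

end CfsgLib.RamifiedFrobenius
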