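import Cfsg.Agent.RamifiedFrobenius.Sylow
import Cfsg.Agent.RamifiedFrobenius.Main

/-!
# When the inertia groups over a fully ramified character are trivial modulo `K`

Two cases: a cyclic quotient, and a character induced from `K`.
-/

set_option autoImplicit false
set_option linter.unusedSectionVars false
set_option linter.style.haveILetI false

namespace CfsgLib.RamifiedSylow

open CfsgLib.Char CfsgLib.GlaubermanCorr
open scoped ComplexConjugate

universe u

variable {X : Type u} [Group X] [Fintype X] {Z : Subgroup X} [hZ : Z.Normal] [Fintype Z] {θ : Z → ℂ}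

/-- With a cyclic quotient, uniqueness forces trivial inertia. -/
theorem regular_of_cyclic (hθ : Cfsg.IsIrrCharacter Z θ) (hI : inertia θ = ⊤)
    (huniq : ∀ ξ ξ' : X → ℂ, Cfsg.IsIrrCharacter X ξ → Cfsg.IsIrrCharacter X ξ' →
      Over θ Z.subtype ξ → Over θ Z.subtype ξ' → ξ = ξ')
    {L : Subgroup X} [L.Normal] [Fintype L] (hZL : Z ≤ L) (hcyc : IsCyclic (X ⧸ L)) {η : L → ℂ}
    (hη : Cfsg.IsIrrCharacter L η) (ho : Over θ (Subgroup.inclusion hZL) η) : inertia η ≤ L := by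
  classical
  obtain ⟨T, hT⟩ : ∃ T, inertia η = T := ⟨_, rfl⟩
  have hLT : L ≤ T := hT ▸ le_inertia (IsIrrCharacter.isClassFunction hη)
  rw [hT]
  by_contra hne
  obtain ⟨q, hq⟩ : ∃ q, L.relIndex T = q := ⟨_, rfl⟩
  have hq1 : 1 < q := by
    rcases Nat.lt_or_ge 1 q with h | h
    · exact h
    · exfalso
      have h0 : q ≠ 0 := hq ▸ Subgroup.index_ne_zero_of_finite
      exact hne (Subgroup.relIndex_eq_one.1 (by omega))
  haveI : NeZero q := ⟨by omega⟩
  haveI := Fintype.ofFinite T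
  haveI := Fintype.ofFinite (L.subgroupOf T)
  haveI hcT : IsCyclic (T ⧸ L.subgroupOf T) := by
    obtain ⟨f, hf⟩ : ∃ f : T →* X ⧸ L, f = (QuotientGroup.mk' L).comp T.subtype := ⟨_, rfl⟩
    have hker : f.ker = L.subgroupOf T := by
      ext t
      rw [hf, MonoidHom.mem_ker, MonoidHom.comp_apply, QuotientGroup.mk'_apply, QuotientGroup.eq_one_iff,
        Subgroup.mem_subgroupOf]
      rfl
    haveI : IsCyclic f.range := inferInstance
    exact isCyclic_of_injective
      ((QuotientGroup.quotientKerEquivRange f).toMonoidHom.comp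
        (QuotientGroup.quotientMulEquivOfEq hker.symm).toMonoidHom)
      ((QuotientGroup.quotientKerEquivRange f).injective.comp
        (QuotientGroup.quotientMulEquivOfEq hker.symm).injective)
  obtain ⟨y0, hy0⟩ := IsCyclic.exists_generator (α := T ⧸ L.subgroupOf T)
  obtain ⟨x, rfl⟩ := QuotientGroup.mk_surjective y0
  have hord : orderOf (x : T ⧸ L.subgroupOf T) = q := by
    rw [orderOf_eq_card_of_forall_mem_zpowers hy0, ← Subgroup.index_eq_card, ← hq, Subgroup.relIndex]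
  have hmem : ∀ i : ℕ, x ^ i ∈ L.subgroupOf T ↔ q ∣ i := fun i => by
    rw [← QuotientGroup.eq_one_iff, QuotientGroup.mk_pow, ← orderOf_dvd_iff_pow_eq_one, hord]
  have hgen : ∀ g : T, ∃ k ∈ L.subgroupOf T, ∃ i : ℕ, g = k * x ^ i := fun g => by
    obtain ⟨i, hi⟩ := mem_powers_iff_mem_zpowers.2 (hy0 (g : T ⧸ L.subgroupOf T))
    refine ⟨g * (x ^ i)⁻¹, ?_, i, by group⟩
    simp only at hi
    rw [← QuotientGroup.eq_one_iff, QuotientGroup.mk_mul, QuotientGroup.mk_inv, QuotientGroup.mk_pow,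
      hi, mul_inv_cancel]
  obtain ⟨lam, ω, hcd⟩ := RamifiedFrobenius.exists_cycData (q := q) hgen hmem
  have hηT := isIrrCharacter_pullBack (T := T) hLT hη
  obtain ⟨ε, hε, hεN⟩ := hcd.exists_extension ⟨_, hηT⟩ fun k k' hk => by
    simp only [pullBack]
    have h := congrFun ((mem_inertia η (x : X)).1 (hT.symm ▸ x.2)) ⟨((k : T) : X), Subgroup.mem_subgroupOf.1 k.2⟩
    rw [conjOn_apply] at h
    refine Eq.trans (congrArg η (Subtype.ext ?_)) h
    have := congrArg Subtype.val hk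
    simpa using this
  have hεN' : ∀ l : L, ε (Subgroup.inclusion hLT l) = η l := fun l =>
    hεN ⟨Subgroup.inclusion hLT l, Subgroup.mem_subgroupOf.2 l.2⟩
  obtain ⟨ε', hε'def⟩ : ∃ ε', lamPow lam (1 : ZMod q) * ε = ε' := ⟨_, rfl⟩
  have hε' : Cfsg.IsIrrCharacter T ε' := hε'def ▸ hcd.isIrr_twist 1 hε
  have hε'N : ∀ l : L, ε' (Subgroup.inclusion hLT l) = η l := fun l => by
    rw [← hε'def, Pi.mul_apply, hcd.lamPow_of_mem _ (Subgroup.mem_subgroupOf.2 l.2), one_mul, hεN']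
  have hc : ∀ δ : T → ℂ, (∀ l : L, δ (Subgroup.inclusion hLT l) = η l) →
      Cfsg.classInner (fun l : L => δ (Subgroup.inclusion hLT l)) η ≠ 0 := fun δ hδ => by
    rw [funext hδ, IsIrrCharacter.classInner_self hη]; exact one_ne_zero
  have hov : ∀ δ : T → ℂ, Cfsg.IsIrrCharacter T δ → (∀ l : L, δ (Subgroup.inclusion hLT l) = η l) →
      Cfsg.IsIrrCharacter X (Cfsg.indFun T δ) ∧ Over θ Z.subtype (Cfsg.indFun T δ) := by
    intro δ hδ hδN
    obtain ⟨h1, h2⟩ := isIrrCharacter_indFun_of_inertia hLT hη hT hδ (hc δ hδN)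
    exact ⟨h1, over_above hθ hI hZL hη ho h1 (h2 ▸ hc δ hδN)⟩
  obtain ⟨h1, h2⟩ := hov ε hε hεN'
  obtain ⟨h3, h4⟩ := hov ε' hε' hε'N
  have heq := indFun_injective_of_inertia hLT hη hT hε hε' (hc ε hεN') (hc ε' hε'N)
    (huniq _ _ h1 h3 h2 h4)
  have hirr : Cfsg.IsIrrCharacter (L.subgroupOf T) (fun k : L.subgroupOf T => ε k) := by
    rw [funext hεN]; exact hηT
  have h10 := (hcd.restrict_irr_iff hε).1 hirr 1 (heq.trans hε'def.symm)
  haveI : Fact (1 < q) := ⟨hq1⟩
  exact one_ne_zero h10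

/-- A bound on the degree over `θ` forces trivial inertia. -/
theorem regular_of_bound (hθ : Cfsg.IsIrrCharacter Z θ) (hI : inertia θ = ⊤) {a : ℕ}
    (hdeg : ∀ ξ : X → ℂ, Cfsg.IsIrrCharacter X ξ → Over θ Z.subtype ξ → ξ 1 = a * θ 1)
    {L : Subgroup X} [L.Normal] [Fintype L] (hZL : Z ≤ L) {η : L → ℂ}
    (hη : Cfsg.IsIrrCharacter L η) (ho : Over θ (Subgroup.inclusion hZL) η)
    (hbound : ∀ b : ℕ, η 1 = b * θ 1 → 0 < b → b ∣ a → b * L.index ≤ a) : inertia η ≤ L := by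
  classical
  obtain ⟨ξ, hξ, hc, hξo⟩ := exists_above hθ hI hZL hη ho
  obtain ⟨-, b, hb0, hb1, -⟩ := over_constituent hθ (Subgroup.inclusion hZL)
    (IsIrrCharacter.isCharacter hη) ho hη (by rw [IsIrrCharacter.classInner_self hη]; exact one_ne_zero)
  obtain ⟨u, hu⟩ := IsCharacter.exists_classInner_eq_natCast
    (IsCharacter.restrict (IsIrrCharacter.isCharacter hξ) L) hη
  obtain ⟨T, hT⟩ : ∃ T, inertia η = T := ⟨_, rfl⟩
  have hLT : L ≤ T := hT ▸ le_inertia (IsIrrCharacter.isClassFunction hη)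
  have hd := degree_eq_mul hξ hη hc
  rw [hdeg ξ hξ hξo, hu, hb1, hT, ← mul_assoc] at hd
  have hd' : a = u * T.index * b := by
    exact_mod_cast mul_right_cancel₀ (IsIrrCharacter.apply_one_ne_zero hθ) hd
  have hnorm : Cfsg.classInner (fun l : L => ξ l) (fun l : L => ξ l) = ((u ^ 2 * T.index : ℕ) : ℂ) := by
    have h1 : Cfsg.classInner (fun l : L => ξ l) (fun l : L => ξ l) =
        Cfsg.classInner (fun l : L => ξ l) ((u : ℂ) • ∑ ψ ∈ conjOrbit η, ψ) :=
      congrArg _ ((restrict_eq_smul_sum hξ hη hc).trans (by rw [hu]))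
    rw [h1, classInner_smul_right, classInner_sum_right, Complex.conj_natCast,
      Finset.sum_congr rfl fun ψ hψ => (show Cfsg.classInner (fun l : L => ξ l) ψ = (u : ℂ) by
        obtain ⟨g, rfl⟩ := mem_conjOrbit.1 hψ
        rw [classInner_restrict_conjOn (IsIrrCharacter.isClassFunction hξ), hu]),
      Finset.sum_const, card_conjOrbit, hT, nsmul_eq_mul]
    push_cast; ring
  have hle := norm_restrict_le hξ L hnorm
  have hb := hbound b hb1 hb0 ⟨u * T.index, by rw [hd']; ring⟩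
  have h1 : (b * L.index) * (b * L.index) ≤ (b * b * T.index) * L.index := by
    calc (b * L.index) * (b * L.index) ≤ a * a := Nat.mul_le_mul hb hb
      _ = (b * b * T.index) * (u ^ 2 * T.index) := by rw [hd']; ring
      _ ≤ (b * b * T.index) * L.index := Nat.mul_le_mul_left _ hle
  have hpos : 0 < L.index := Nat.pos_of_ne_zero Subgroup.index_ne_zero_of_finite
  have h2 : L.index ≤ T.index := by
    have h3 : L.index * (b * b * L.index) ≤ T.index * (b * b * L.index) := by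
      calc L.index * (b * b * L.index) = (b * L.index) * (b * L.index) := by ring
        _ ≤ (b * b * T.index) * L.index := h1
        _ = T.index * (b * b * L.index) := by ring
    exact Nat.le_of_mul_le_mul_right h3 (Nat.mul_pos (Nat.mul_pos hb0 hb0) hpos)
  rw [hT]
  refine Subgroup.relIndex_eq_one.1 ?_
  have h4 := Subgroup.relIndex_mul_index hLT
  have h5 : 0 < L.relIndex T := Nat.pos_of_ne_zero Subgroup.index_ne_zero_of_finite
  nlinarith

variable {G : Type u} [Group G] [Fintype G] {p : ℕ} [hp : Fact p.Prime] {Zg : Subgroup G}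
  [hZg : Zg.Normal] [Fintype Zg] {θg : Zg → ℂ} {χ : G → ℂ} {e : ℕ}

/-- The quotient of a Sylow preimage by `K` is the image of the Sylow subgroup. -/
theorem image_eq {K : Subgroup G} [K.Normal] (hZK : Zg ≤ K) {P E : Subgroup G} (hE : Zg ⊔ P = E) :
    E.map (QuotientGroup.mk' K) = P.map (QuotientGroup.mk' K) := by
  rw [← hE, Subgroup.map_sup, (Subgroup.map_eq_bot_iff _).2 ((QuotientGroup.ker_mk' K).symm ▸ hZK),
    bot_sup_eq]

/-- The cyclic case. -/
theorem complement_of_cyclic (hθ : Cfsg.IsIrrCharacter Zg θg) (hI : inertia θg = ⊤)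
    (hχ : Cfsg.IsIrrCharacter G χ) (he : e ^ 2 = Zg.index) (hres : ∀ z : Zg, χ z = e * θg z)
    {K : Subgroup G} [K.Normal] (hZK : Zg ≤ K) (P : Sylow p G)
    (hcyc : IsCyclic ((P : Subgroup G).map (QuotientGroup.mk' K))) :
    ∃ S : Subgroup (G ⧸ K), S.index = p ^ (Nat.card (G ⧸ K)).factorization p := by
  classical
  obtain ⟨E, hE⟩ : ∃ E, Zg ⊔ (P : Subgroup G) = E := ⟨_, rfl⟩
  have hZE : Zg ≤ E := hE ▸ le_sup_left
  haveI := Fintype.ofFinite E
  obtain ⟨k, -, -, -, -, huniq⟩ := sylow_ramified hθ hI hχ he hres P E hE hZE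
  refine exists_complement hθ hI hχ he hres hZK P E hE hZE fun η hη ⟨a, ha⟩ => ?_
  haveI := Fintype.ofFinite (Zg.subgroupOf E)
  haveI := Fintype.ofFinite (K.subgroupOf E)
  have hZL : Zg.subgroupOf E ≤ K.subgroupOf E := fun z hz => hZK hz
  have hcyc' : IsCyclic (E ⧸ K.subgroupOf E) := by
    obtain ⟨f, hf⟩ : ∃ f : E →* G ⧸ K, f = (QuotientGroup.mk' K).comp E.subtype := ⟨_, rfl⟩
    have hker : f.ker = K.subgroupOf E := by
      ext t
      rw [hf, MonoidHom.mem_ker, MonoidHom.comp_apply, QuotientGroup.mk'_apply, QuotientGroup.eq_one_iff,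
        Subgroup.mem_subgroupOf]
      rfl
    have hrange : f.range = (P : Subgroup G).map (QuotientGroup.mk' K) := by
      rw [hf, MonoidHom.range_comp, E.range_subtype, image_eq hZK hE]
    haveI : IsCyclic f.range := hrange ▸ hcyc
    exact isCyclic_of_injective
      ((QuotientGroup.quotientKerEquivRange f).toMonoidHom.comp
        (QuotientGroup.quotientMulEquivOfEq hker.symm).toMonoidHom)
      ((QuotientGroup.quotientKerEquivRange f).injective.comp
        (QuotientGroup.quotientMulEquivOfEq hker.symm).injective)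
  have hIE : inertia (pullBack (T := E) θg) = ⊤ := inertia_eq_top fun x z => by
    exact congrFun ((mem_inertia θg (x : G)).1 (hI ▸ Subgroup.mem_top _))
      ⟨((z : E) : G), Subgroup.mem_subgroupOf.1 z.2⟩
  exact regular_of_cyclic (isIrrCharacter_pullBack hZE hθ) hIE
    (fun ξ ξ' h1 h2 ⟨b, hb⟩ ⟨b', hb'⟩ => huniq ξ ξ' h1 h2
      ⟨b, fun z => hb ⟨Subgroup.inclusion hZE z, Subgroup.mem_subgroupOf.2 z.2⟩⟩
      ⟨b', fun z => hb' ⟨Subgroup.inclusion hZE z, Subgroup.mem_subgroupOf.2 z.2⟩⟩)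
    hZL hcyc' hη ⟨a, fun z => ha ⟨((z : E) : G), Subgroup.mem_subgroupOf.1 z.2⟩⟩

/-- The induced case. -/
theorem complement_of_induced (hθ : Cfsg.IsIrrCharacter Zg θg) (hI : inertia θg = ⊤)
    (hχ : Cfsg.IsIrrCharacter G χ) (he : e ^ 2 = Zg.index) (hres : ∀ z : Zg, χ z = e * θg z)
    {K : Subgroup G} [K.Normal] [Fintype K] (hZK : Zg ≤ K) {φ : K → ℂ}
    (hφ : Cfsg.IsCharacter K φ) (hind : Cfsg.indFun K φ = χ) (P : Sylow p G) :
    ∃ S : Subgroup (G ⧸ K), S.index = p ^ (Nat.card (G ⧸ K)).factorization p := by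
  classical
  obtain ⟨E, hE⟩ : ∃ E, Zg ⊔ (P : Subgroup G) = E := ⟨_, rfl⟩
  have hZE : Zg ≤ E := hE ▸ le_sup_left
  haveI := Fintype.ofFinite E
  obtain ⟨k, hEk, -, hEi, hdeg, huniq⟩ := sylow_ramified hθ hI hχ he hres P E hE hZE
  -- an irreducible constituent of `φ` under `χ`
  have hcl := IsIrrCharacter.isClassFunction hχ
  have hinner : Cfsg.classInner φ (fun y : K => χ y) = 1 := by
    rw [← classInner_indFun φ hcl, hind, IsIrrCharacter.classInner_self hχ]
  obtain ⟨φ0, hφ0, hc1, hc2⟩ : ∃ φ0, Cfsg.IsIrrCharacter K φ0 ∧ Cfsg.classInner φ φ0 ≠ 0 ∧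
      Cfsg.classInner (fun y : K => χ y) φ0 ≠ 0 := by
    rw [classInner_eq_sum_irr (IsCharacter.isClassFunction hφ)] at hinner
    obtain ⟨ν, hν, hne⟩ := Finset.exists_ne_zero_of_sum_ne_zero (hinner ▸ one_ne_zero (α := ℂ))
    obtain ⟨h1, h2⟩ := mul_ne_zero_iff.1 hne
    exact ⟨ν, mem_irrFinset.1 hν, h1, fun h0 => h2 (by rw [h0, map_zero])⟩
  obtain ⟨-, f, hf0, hf1, hfz⟩ := over_constituent hθ (Subgroup.inclusion hZK)
    (IsCharacter.restrict (IsIrrCharacter.isCharacter hχ) K) ⟨(e : ℂ), hres⟩ hφ0 hc2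
  obtain ⟨d, hd0, hd⟩ := IsIrrCharacter.exists_degree hθ
  have hem : e = K.index * f := by
    have h1 := IsCharacter.re_constituent_le hφ hφ0 hc1
    have h2 := congrFun hind 1
    have h3 := IsCharacter.re_constituent_le
      (IsCharacter.indFun (G := G) (IsIrrCharacter.isCharacter hφ0)) hχ
      ((classInner_indFun_ne_zero_iff hcl φ0).2 hc2)
    obtain ⟨d', hd'⟩ := IsCharacter.exists_degree hφ
    have hχ1 : χ 1 = ((e * d : ℕ) : ℂ) := by
      rw [Nat.cast_mul, ← hd]; simpa using hres 1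
    have hφ01 : φ0 1 = ((f * d : ℕ) : ℂ) := by rw [hf1, hd, Nat.cast_mul]
    rw [hφ01, hd', Complex.natCast_re, Complex.natCast_re, Nat.cast_le] at h1
    rw [indFun_one, hd', hχ1, ← Nat.cast_mul, Nat.cast_inj] at h2
    rw [indFun_one, hφ01, hχ1, ← Nat.cast_mul, Complex.natCast_re, Complex.natCast_re, Nat.cast_le] at h3
    have h4 : K.index * (f * d) ≤ e * d := h2 ▸ Nat.mul_le_mul_left _ h1
    have h5 : K.index * (f * d) = e * d := le_antisymm h4 h3
    exact (Nat.eq_of_mul_eq_mul_right hd0 (by rw [← h5]; ring)).symm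
  refine exists_complement hθ hI hχ he hres hZK P E hE hZE fun η hη ⟨a, ha⟩ => ?_
  haveI := Fintype.ofFinite (Zg.subgroupOf E)
  haveI := Fintype.ofFinite (K.subgroupOf E)
  have hZL : Zg.subgroupOf E ≤ K.subgroupOf E := fun z hz => hZK hz
  have hθE := isIrrCharacter_pullBack (T := E) hZE hθ
  have hIE : inertia (pullBack (T := E) θg) = ⊤ := inertia_eq_top fun x z => by
    exact congrFun ((mem_inertia θg (x : G)).1 (hI ▸ Subgroup.mem_top _))
      ⟨((z : E) : G), Subgroup.mem_subgroupOf.1 z.2⟩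
  have ho : Over (pullBack (T := E) θg) (Subgroup.inclusion hZL) η :=
    ⟨a, fun z => ha ⟨((z : E) : G), Subgroup.mem_subgroupOf.1 z.2⟩⟩
  have hconv : ∀ {ξ : E → ℂ}, Over (pullBack (T := E) θg) (Zg.subgroupOf E).subtype ξ →
      Over θg (Subgroup.inclusion hZE) ξ := fun ⟨b, hb⟩ =>
    ⟨b, fun z => hb ⟨Subgroup.inclusion hZE z, Subgroup.mem_subgroupOf.2 z.2⟩⟩
  refine regular_of_bound hθE hIE (a := p ^ k) (fun ξ hξ hξo => hdeg ξ hξ (hconv hξo)) hZL hη ho ?_
  intro b hb1 hb0 hba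
  -- the degrees below `φ0` are all `b`
  obtain ⟨ι, hι⟩ : ∃ ι : K.subgroupOf E →* K, ∀ v, (ι v : G) = ((v : E) : G) :=
    ⟨{ toFun := fun v => ⟨((v : E) : G), Subgroup.mem_subgroupOf.1 v.2⟩
       map_one' := rfl
       map_mul' := fun _ _ => rfl }, fun _ => rfl⟩
  have hΦ := IsCharacter.comp (IsIrrCharacter.isCharacter hφ0) ι
  have hΦo : Over (pullBack (T := E) θg) (Subgroup.inclusion hZL) (fun v => φ0 (ι v)) := by
    refine ⟨(f : ℂ), fun z => ?_⟩
    refine Eq.trans (congrArg φ0 (Subtype.ext (hι _))) (hfz ⟨((z : E) : G), Subgroup.mem_subgroupOf.1 z.2⟩)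
  obtain ⟨s, hs, hsum⟩ := IsCharacter.exists_multiset hΦ
  have hmem : ∀ ζ ∈ s, ζ 1 = (b : ℂ) * θg 1 := by
    intro ζ hζ
    have hc : Cfsg.classInner (fun v => φ0 (ι v)) ζ ≠ 0 := by
      rw [hsum, classInner_multiset_sum s hs (hs ζ hζ), Nat.cast_ne_zero]
      exact (Multiset.count_pos.2 hζ).ne'
    obtain ⟨hζo, -⟩ := over_constituent hθE (Subgroup.inclusion hZL) hΦ hΦo (hs ζ hζ) hc
    obtain ⟨x, rfl⟩ := conj_of_unique hθE hIE
      (fun ξ ξ' h1 h2 h3 h4 => huniq ξ ξ' h1 h2 (hconv h3) (hconv h4)) hZL hη ho (hs ζ hζ) hζo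
    rw [conjOn_apply_one]; exact hb1
  have hbf : b ∣ f := by
    refine ⟨Multiset.card s, ?_⟩
    have h := congrFun hsum 1
    simp only [map_one] at h
    rw [hf1, show s.sum 1 = (s.map fun ψ => ψ 1).sum from
      map_multiset_sum (Pi.evalAddMonoidHom (fun _ : K.subgroupOf E => ℂ) 1) s,
      Multiset.map_congr rfl hmem, Multiset.map_const', Multiset.sum_replicate, nsmul_eq_mul,
      ← mul_assoc, mul_comm (Multiset.card s : ℂ)] at h
    have h6 := mul_right_cancel₀ (IsIrrCharacter.apply_one_ne_zero hθ) h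
    exact_mod_cast h6
  have hrel : (K.subgroupOf E).index ∣ K.index := Subgroup.relIndex_dvd_index_of_normal K E
  have hdvd : b * (K.subgroupOf E).index ∣ e := by
    rw [hem, mul_comm K.index]; exact Nat.mul_dvd_mul hbf hrel
  have hpow : ∃ i, b * (K.subgroupOf E).index = p ^ i := by
    obtain ⟨i, -, hi⟩ := (Nat.dvd_prime_pow hp.out).1 hba
    have h1 : (K.subgroupOf E).index ∣ p ^ (2 * k) := by
      have h := Subgroup.relIndex_mul_relIndex (Zg) (K ⊓ E) E (le_inf hZK hZE) inf_le_right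
      rw [Subgroup.inf_relIndex_right, hEk, ← pow_mul, mul_comm k 2] at h
      exact ⟨Zg.relIndex (K ⊓ E), by rw [← h, mul_comm]; rfl⟩
    obtain ⟨i', -, hi'⟩ := (Nat.dvd_prime_pow hp.out).1 h1
    exact ⟨i + i', by rw [hi, hi', pow_add]⟩
  obtain ⟨i, hi⟩ := hpow
  rw [hi] at hdvd ⊢
  have h7 : (p ^ i) ^ 2 ∣ (p ^ k) ^ 2 := by
    refine Nat.Coprime.dvd_of_dvd_mul_right (n := E.index) ?_ ?_
    · exact ((hp.out.coprime_iff_not_dvd.2 hEi).pow_left i).pow_left 2
    · rw [← hEk, Subgroup.relIndex_mul_index hZE, ← he]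
      exact pow_dvd_pow_of_dvd hdvd 2
  exact (Nat.pow_le_pow_iff_left two_ne_zero).1 (Nat.le_of_dvd (pow_pos (pow_pos hp.out.pos _) _) h7)

end CfsgLib.RamifiedSylow
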