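import Cfsg.Agent.Char.NormalSub
import Cfsg.Agent.Char.DegreeRatio
import Mathlib.GroupTheory.Sylow

/-!
# Fully ramified characters and Sylow subgroups of an intermediate quotient

If every character of `K ∩ ZP` over `θ` has trivial inertia in `ZP` modulo `K`, the stabiliser of
one of them in the normalizer gives a Hall `p`-complement of `G ⧸ K`.
-/

set_option autoImplicit false
set_option linter.unusedSectionVars false
set_option linter.style.haveILetI false

namespace CfsgLib.RamifiedSylow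

open CfsgLib.Char
open scoped ComplexConjugate

universe u v w

/-- The restriction along `ι` is a multiple of `θ`. -/
def Over {A : Type v} {L : Type w} (θ : A → ℂ) (ι : A → L) (ξ : L → ℂ) : Prop :=
  ∃ a : ℂ, ∀ z, ξ (ι z) = a * θ z

/-- Constituents of a character over `θ` are over `θ`. -/
theorem over_constituent {A : Type u} {L : Type u} [Group A] [Fintype A] [Group L] [Fintype L]
    {θ : A → ℂ} (hθ : Cfsg.IsIrrCharacter A θ) (ι : A →* L) {Φ η : L → ℂ}
    (hΦ : Cfsg.IsCharacter L Φ) (hover : Over θ ι Φ) (hη : Cfsg.IsIrrCharacter L η)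
    (hc : Cfsg.classInner Φ η ≠ 0) :
    Over θ ι η ∧ ∃ b : ℕ, 0 < b ∧ η 1 = b * θ 1 ∧ ∀ z, η (ι z) = b * θ z := by
  classical
  obtain ⟨a, ha⟩ := hover
  have hres := IsCharacter.comp (IsIrrCharacter.isCharacter hη) ι
  have hrest := IsCharacter.comp (IsCharacter.sub_irr hΦ hη hc) ι
  obtain ⟨b, hb⟩ := IsCharacter.exists_classInner_eq_natCast hres hθ
  have hexp : (fun z => η (ι z)) = (b : ℂ) • θ := by
    conv_lhs => rw [eq_sum_irr (IsCharacter.isClassFunction hres)]
    rw [Finset.sum_eq_single θ (fun ν hν hne => ?_) (fun h => absurd (mem_irrFinset.2 hθ) h), hb]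
    obtain ⟨k₁, hk₁⟩ := IsCharacter.exists_classInner_eq_natCast hres (mem_irrFinset.1 hν)
    obtain ⟨k₂, hk₂⟩ := IsCharacter.exists_classInner_eq_natCast hrest (mem_irrFinset.1 hν)
    have h1 : Cfsg.classInner (fun z => Φ (ι z)) ν = ((k₁ + k₂ : ℕ) : ℂ) := by
      rw [Nat.cast_add, ← hk₁, ← hk₂, ← classInner_add_left]
      congr 1
      funext z
      simp
    rw [show (fun z => Φ (ι z)) = a • θ from funext ha, classInner_smul_left,
      IsIrrCharacter.classInner_of_ne hθ (mem_irrFinset.1 hν) (Ne.symm hne), mul_zero, eq_comm,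
      Nat.cast_eq_zero] at h1
    rw [hk₁, show k₁ = 0 by omega, Nat.cast_zero, zero_smul]
  have h2 : ∀ z, η (ι z) = (b : ℂ) * θ z := fun z => congrFun hexp z
  refine ⟨⟨b, h2⟩, b, Nat.pos_of_ne_zero fun h0 => ?_, by simpa using h2 1, h2⟩
  have := h2 1
  rw [map_one, h0, Nat.cast_zero, zero_mul] at this
  exact IsIrrCharacter.apply_one_ne_zero hη this

section Normal

variable {X : Type u} [Group X] [Fintype X]

/-- A normal subgroup decides the index of the intersection. -/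
theorem relIndex_dvd_index {S M : Subgroup X} [M.Normal] : S.relIndex M ∣ S.index := by
  have h1 := Subgroup.relIndex_mul_index (inf_le_left : S ⊓ M ≤ S)
  have h2 := Subgroup.relIndex_mul_index (inf_le_right : S ⊓ M ≤ M)
  rw [Subgroup.inf_relIndex_left] at h1
  rw [Subgroup.inf_relIndex_right] at h2
  obtain ⟨t, ht⟩ := Subgroup.relIndex_dvd_index_of_normal M S
  have hpos : 0 < M.relIndex S := Nat.pos_of_ne_zero Subgroup.index_ne_zero_of_finite
  refine ⟨t, Nat.eq_of_mul_eq_mul_left hpos ?_⟩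
  rw [h1, ← h2, ht]
  ring

/-- The norm of a restriction is at most the index. -/
theorem norm_restrict_le {ξ : X → ℂ} (hξ : Cfsg.IsIrrCharacter X ξ) (L : Subgroup X) [Fintype L]
    {k : ℕ} (hk : Cfsg.classInner (fun l : L => ξ l) (fun l : L => ξ l) = k) : k ≤ L.index := by
  classical
  have h1 := IsIrrCharacter.classInner_self hξ
  rw [classInner_def, inv_mul_eq_iff_eq_mul₀ (by exact_mod_cast Nat.card_pos.ne'), mul_one] at h1
  rw [classInner_def, inv_mul_eq_iff_eq_mul₀ (by exact_mod_cast Nat.card_pos.ne')] at hk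
  simp only [Complex.mul_conj'] at h1 hk
  have e1 : ∑ g : X, ‖ξ g‖ ^ 2 = (Nat.card X : ℝ) := by exact_mod_cast h1
  have e2 : ∑ g : L, ‖ξ g‖ ^ 2 = (Nat.card L : ℝ) * k := by exact_mod_cast hk
  have hle : ∑ g : L, ‖ξ g‖ ^ 2 ≤ ∑ g : X, ‖ξ g‖ ^ 2 := by
    rw [← Finset.sum_image (s := (Finset.univ : Finset L)) (g := fun l : L => (l : X))
      (f := fun g => ‖ξ g‖ ^ 2) (fun a _ b _ h => Subtype.ext h)]
    exact Finset.sum_le_univ_sum_of_nonneg (fun g => by positivity)
  rw [e1, e2, ← L.card_mul_index, Nat.cast_mul] at hle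
  have := le_of_mul_le_mul_left hle (by exact_mod_cast Nat.card_pos)
  exact_mod_cast this

variable {Z : Subgroup X} [hZ : Z.Normal] [Fintype Z] {θ : Z → ℂ}

/-- An irreducible character of `X` containing a character over `θ` is over `θ`. -/
theorem over_above (hθ : Cfsg.IsIrrCharacter Z θ) (hI : inertia θ = ⊤) {L : Subgroup X}
    [Fintype L] (hZL : Z ≤ L) {η : L → ℂ} (hη : Cfsg.IsIrrCharacter L η)
    (hover : Over θ (Subgroup.inclusion hZL) η) {ξ : X → ℂ} (hξ : Cfsg.IsIrrCharacter X ξ)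
    (hc' : Cfsg.classInner (fun l : L => ξ l) η ≠ 0) : Over θ Z.subtype ξ := by
  classical
  obtain ⟨a, ha⟩ := hover
  refine ⟨Cfsg.classInner (fun z : Z => ξ z) θ, fun z => ?_⟩
  refine congrFun (restrict_eq_smul_of_invariant hξ hθ hI fun h0 => ?_) z
  have hres := IsCharacter.restrict (IsIrrCharacter.isCharacter hξ) L
  obtain ⟨k₁, hk₁⟩ := IsCharacter.exists_classInner_eq_natCast
    (IsCharacter.comp (IsIrrCharacter.isCharacter hη) (Subgroup.inclusion hZL)) hθ
  obtain ⟨k₂, hk₂⟩ := IsCharacter.exists_classInner_eq_natCast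
    (IsCharacter.comp (IsCharacter.sub_irr hres hη hc') (Subgroup.inclusion hZL)) hθ
  have h1 : Cfsg.classInner (fun z : Z => ξ z) θ = ((k₁ + k₂ : ℕ) : ℂ) := by
    rw [Nat.cast_add, ← hk₁, ← hk₂, ← classInner_add_left]
    congr 1
    funext z
    simp
  rw [h0, eq_comm, Nat.cast_eq_zero] at h1
  have h3 : Cfsg.classInner (fun z : Z => η (Subgroup.inclusion hZL z)) θ = a := by
    rw [show (fun z : Z => η (Subgroup.inclusion hZL z)) = a • θ from funext ha, classInner_smul_left,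
      IsIrrCharacter.classInner_self hθ, mul_one]
  rw [hk₁, show k₁ = 0 by omega, Nat.cast_zero] at h3
  have h4 := ha 1
  rw [map_one, ← h3, zero_mul] at h4
  exact IsIrrCharacter.apply_one_ne_zero hη h4

theorem exists_above (hθ : Cfsg.IsIrrCharacter Z θ) (hI : inertia θ = ⊤) {L : Subgroup X}
    [Fintype L] (hZL : Z ≤ L) {η : L → ℂ} (hη : Cfsg.IsIrrCharacter L η)
    (hover : Over θ (Subgroup.inclusion hZL) η) :
    ∃ ξ : X → ℂ, Cfsg.IsIrrCharacter X ξ ∧ Cfsg.classInner (fun l : L => ξ l) η ≠ 0 ∧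
      Over θ Z.subtype ξ := by
  classical
  have hne : Cfsg.indFun L η ≠ 0 := fun h0 => by
    have h1 := congrFun h0 1
    rw [indFun_one, Pi.zero_apply, mul_eq_zero] at h1
    exact h1.elim (by exact_mod_cast Subgroup.index_ne_zero_of_finite)
      (IsIrrCharacter.apply_one_ne_zero hη)
  obtain ⟨ξ, hξ, hc⟩ :=
    IsCharacter.exists_constituent (IsCharacter.indFun (IsIrrCharacter.isCharacter hη)) hne
  have hc' := (classInner_indFun_ne_zero_iff (IsIrrCharacter.isClassFunction hξ) η).1 hc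
  exact ⟨ξ, hξ, hc', over_above hθ hI hZL hη hover hξ hc'⟩

/-- If only one character of `X` lies over `θ`, those of a normal subgroup over `θ` are conjugate. -/
theorem conj_of_unique (hθ : Cfsg.IsIrrCharacter Z θ) (hI : inertia θ = ⊤)
    (huniq : ∀ ξ ξ' : X → ℂ, Cfsg.IsIrrCharacter X ξ → Cfsg.IsIrrCharacter X ξ' →
      Over θ Z.subtype ξ → Over θ Z.subtype ξ' → ξ = ξ')
    {L : Subgroup X} [L.Normal] [Fintype L] (hZL : Z ≤ L) {η η' : L → ℂ}
    (hη : Cfsg.IsIrrCharacter L η) (ho : Over θ (Subgroup.inclusion hZL) η)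
    (hη' : Cfsg.IsIrrCharacter L η') (ho' : Over θ (Subgroup.inclusion hZL) η') :
    ∃ x : X, η' = conjOn x η := by
  obtain ⟨ξ, hξ, hc, hξo⟩ := exists_above hθ hI hZL hη ho
  obtain ⟨ξ', hξ', hc', hξo'⟩ := exists_above hθ hI hZL hη' ho'
  rw [← huniq ξ ξ' hξ hξ' hξo hξo'] at hc'
  exact mem_conjOrbit.1 (mem_conjOrbit_of_constituent hξ hη hη' hc hc')

/-- The stabiliser of a character over `θ`. -/
theorem core (hθ : Cfsg.IsIrrCharacter Z θ) (hI : inertia θ = ⊤) (E : Subgroup X) [Fintype E]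
    (hZE : Z ≤ E)
    (huniq : ∀ ξ ξ' : E → ℂ, Cfsg.IsIrrCharacter E ξ → Cfsg.IsIrrCharacter E ξ' →
      Over θ (Subgroup.inclusion hZE) ξ → Over θ (Subgroup.inclusion hZE) ξ' → ξ = ξ')
    {L : Subgroup X} [L.Normal] [Fintype L] (hLE : L ≤ E) (hZL : Z ≤ L) {η : L → ℂ}
    (hη : Cfsg.IsIrrCharacter L η) (ho : Over θ (Subgroup.inclusion hZL) η)
    (hreg : ∀ x ∈ E, conjOn x η = η → x ∈ L)
    {M : Subgroup X} [M.Normal] (hLM : L ≤ M) (hcop : (L.relIndex E).Coprime (L.relIndex M)) :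
    ∃ S : Subgroup X, M ≤ S ∧ S.index = L.relIndex E := by
  classical
  obtain ⟨S, hS⟩ : ∃ S, inertia η = S := ⟨_, rfl⟩
  haveI := Fintype.ofFinite (Z.subgroupOf E)
  haveI := Fintype.ofFinite (L.subgroupOf E)
  have hθE := isIrrCharacter_pullBack (T := E) hZE hθ
  have hIE : inertia (pullBack (T := E) θ) = ⊤ := inertia_eq_top fun x z => by
    exact congrFun ((mem_inertia θ (x : X)).1 (hI ▸ Subgroup.mem_top _))
      ⟨((z : E) : X), Subgroup.mem_subgroupOf.1 z.2⟩
  have hZLE : Z.subgroupOf E ≤ L.subgroupOf E := fun z hz => hZL hz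
  have htr : ∀ g : X, ∃ x ∈ E, conjOn g η = conjOn x η := by
    intro g
    obtain ⟨a, ha⟩ := ho
    have ho' : Over θ (Subgroup.inclusion hZL) (conjOn g η) := ⟨a, fun z => by
      rw [conjOn_apply]
      refine (ha ⟨g * z * g⁻¹, hZ.conj_mem _ z.2 g⟩).trans ?_
      congr 1
      exact congrFun ((mem_inertia θ g).1 (hI ▸ Subgroup.mem_top g)) z⟩
    have hconv : ∀ {ξ : E → ℂ}, Over (pullBack (T := E) θ) (Z.subgroupOf E).subtype ξ →
        Over θ (Subgroup.inclusion hZE) ξ := fun ⟨b, hb⟩ =>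
      ⟨b, fun z => hb ⟨Subgroup.inclusion hZE z, Subgroup.mem_subgroupOf.2 z.2⟩⟩
    have hpull : ∀ {ζ : L → ℂ}, Over θ (Subgroup.inclusion hZL) ζ →
        Over (pullBack (T := E) θ) (Subgroup.inclusion hZLE) (pullBack (T := E) ζ) := fun ⟨b, hb⟩ =>
      ⟨b, fun z => hb ⟨((z : E) : X), Subgroup.mem_subgroupOf.1 z.2⟩⟩
    obtain ⟨x, hx⟩ := conj_of_unique hθE hIE
      (fun ξ ξ' h1 h2 h3 h4 => huniq ξ ξ' h1 h2 (hconv h3) (hconv h4)) hZLE
      (isIrrCharacter_pullBack hLE hη) (hpull ⟨a, ha⟩)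
      (isIrrCharacter_pullBack hLE (isIrrCharacter_conjOn hη g)) (hpull ho')
    refine ⟨x, x.2, funext fun l => ?_⟩
    exact congrFun hx ⟨Subgroup.inclusion hLE l, Subgroup.mem_subgroupOf.2 l.2⟩
  have hLS : L ≤ S := hS ▸ le_inertia (IsIrrCharacter.isClassFunction hη)
  have hSE : S.subgroupOf E = L.subgroupOf E := by
    refine le_antisymm (fun (x : E) hx => hreg (x : X) x.2 ?_) fun x hx => hLS hx
    rw [← hS, Subgroup.mem_subgroupOf] at hx
    exact (mem_inertia η (x : X)).1 hx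
  have hidx : S.index = L.relIndex E := by
    have hrel : L.relIndex E = S.relIndex E := by rw [Subgroup.relIndex, Subgroup.relIndex, hSE]
    rw [hrel, Subgroup.relIndex, Subgroup.index_eq_card, Subgroup.index_eq_card]
    refine (Nat.card_eq_of_bijective (Quotient.map' (fun x : E => (x : X)) fun a b h => ?_) ⟨?_, ?_⟩).symm
    · rw [QuotientGroup.leftRel_apply] at h ⊢
      exact h
    · intro a b
      induction a using Quotient.inductionOn' with
      | _ a =>
        induction b using Quotient.inductionOn' with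
        | _ b =>
          intro h
          rw [Quotient.map'_mk'', Quotient.map'_mk''] at h
          have h2 := Quotient.exact' h
          rw [QuotientGroup.leftRel_apply] at h2
          exact Quotient.sound' (QuotientGroup.leftRel_apply.2 h2)
    · intro b
      induction b using Quotient.inductionOn' with
      | _ g =>
        obtain ⟨x, hx, hxg⟩ := htr g⁻¹
        refine ⟨Quotient.mk'' ⟨x⁻¹, E.inv_mem hx⟩, Quotient.sound' (QuotientGroup.leftRel_apply.2 ?_)⟩
        rw [← hS, mem_inertia]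
        simp only [inv_inv]
        rw [← conjOn_conjOn, ← hxg, conjOn_conjOn, inv_mul_cancel, conjOn_one]
  refine ⟨S, Subgroup.relIndex_eq_one.1 ?_, hidx⟩
  exact Nat.eq_one_of_dvd_coprimes hcop (hidx ▸ relIndex_dvd_index)
    (Subgroup.relIndex_dvd_of_le_left M hLS)

end Normal

variable {G : Type u} [Group G] [Fintype G] {p : ℕ} [hp : Fact p.Prime] {Z : Subgroup G}
  [hZ : Z.Normal] [Fintype Z] {θ : Z → ℂ} {χ : G → ℂ} {e : ℕ}

theorem isPGroup_index {P : Subgroup G} (hP : IsPGroup p P) :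
    ∃ j, Z.relIndex (Z ⊔ P) = p ^ j := by
  obtain ⟨n, hn⟩ := hP.exists_card_eq
  rw [Subgroup.relIndex_sup_left]
  have h : Z.relIndex P ∣ p ^ n := hn ▸ (Z.subgroupOf P).index_dvd_card
  obtain ⟨j, -, hj⟩ := (Nat.dvd_prime_pow hp.out).1 h
  exact ⟨j, hj⟩

/-- A fully ramified character is fully ramified over every Sylow preimage. -/
theorem sylow_ramified (hθ : Cfsg.IsIrrCharacter Z θ) (hI : inertia θ = ⊤)
    (hχ : Cfsg.IsIrrCharacter G χ) (he : e ^ 2 = Z.index) (hres : ∀ z : Z, χ z = e * θ z)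
    (P : Sylow p G) (E : Subgroup G) [Fintype E] (hE : Z ⊔ (P : Subgroup G) = E) (hZE : Z ≤ E) :
    ∃ k : ℕ, Z.relIndex E = (p ^ k) ^ 2 ∧ p ^ k ∣ e ∧ ¬ p ∣ E.index ∧
      (∀ ξ : E → ℂ, Cfsg.IsIrrCharacter E ξ → Over θ (Subgroup.inclusion hZE) ξ →
        ξ 1 = (p ^ k : ℕ) * θ 1) ∧
      ∀ ξ ξ' : E → ℂ, Cfsg.IsIrrCharacter E ξ → Cfsg.IsIrrCharacter E ξ' →
        Over θ (Subgroup.inclusion hZE) ξ → Over θ (Subgroup.inclusion hZE) ξ' → ξ = ξ' := by
  classical
  obtain ⟨j, hj⟩ := isPGroup_index (Z := Z) P.isPGroup'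
  rw [hE] at hj
  have hEi : ¬ p ∣ E.index := fun h =>
    P.not_dvd_index (h.trans (Subgroup.index_dvd_of_le (hE ▸ le_sup_right)))
  have hmul := Subgroup.relIndex_mul_index hZE
  rw [← he, hj] at hmul
  have he0 : e ≠ 0 := fun h => by
    have : Z.index ≠ 0 := Subgroup.index_ne_zero_of_finite
    rw [← he, h] at this
    exact this rfl
  obtain ⟨k, e', he'p, hek⟩ := Nat.exists_eq_pow_mul_and_not_dvd he0 p hp.out.ne_one
  have hjk : p ^ j = (p ^ k) ^ 2 := by
    refine Nat.dvd_antisymm ?_ ?_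
    · refine Nat.Coprime.dvd_of_dvd_mul_right (n := e' ^ 2) ?_ ⟨E.index, ?_⟩
      · exact Nat.Coprime.pow _ _ (hp.out.coprime_iff_not_dvd.2 he'p)
      · rw [hmul, hek]; ring
    · refine Nat.Coprime.dvd_of_dvd_mul_right (n := E.index) ?_ ⟨e' ^ 2, ?_⟩
      · exact ((hp.out.coprime_iff_not_dvd.2 hEi).pow_left k).pow_left 2
      · rw [hmul, hek]; ring
  have hfr : ∀ ψ : G → ℂ, Cfsg.IsIrrCharacter G ψ →
      Cfsg.classInner (fun z : Z => ψ z) θ ≠ 0 → ψ = χ := fun ψ hψ hc => by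
    have hcon : Cfsg.classInner (fun z : Z => χ z) θ ≠ 0 := by
      rw [show (fun z : Z => χ z) = (e : ℂ) • θ from funext hres, classInner_smul_left,
        IsIrrCharacter.classInner_self hθ, mul_one]
      exact_mod_cast he0
    exact (((fully_ramified_tfae hχ hθ hcon).2.1 ⟨e, funext hres, he⟩).2 ψ hψ
      ((classInner_indFun_ne_zero_iff (IsIrrCharacter.isClassFunction hψ) θ).2 hc))
  haveI := Fintype.ofFinite (Z.subgroupOf E)
  have hθE := isIrrCharacter_pullBack (T := E) hZE hθ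
  have hIE : inertia (pullBack (T := E) θ) = ⊤ := inertia_eq_top fun x z => by
    exact congrFun ((mem_inertia θ (x : G)).1 (hI ▸ Subgroup.mem_top _))
      ⟨((z : E) : G), Subgroup.mem_subgroupOf.1 z.2⟩
  have key : ∀ ξ : E → ℂ, Cfsg.IsIrrCharacter E ξ → Over θ (Subgroup.inclusion hZE) ξ →
      ξ 1 = (p ^ k : ℕ) * θ 1 ∧
      Cfsg.classInner (Cfsg.indFun (Z.subgroupOf E) (pullBack (T := E) θ)) ξ = (p ^ k : ℕ) := by
    intro ξ hξ ⟨aC, haC⟩
    obtain ⟨a, ha⟩ := IsCharacter.exists_classInner_eq_natCast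
      (IsCharacter.restrict (IsIrrCharacter.isCharacter hξ) (Z.subgroupOf E)) hθE
    have hrf : (fun z : Z.subgroupOf E => ξ z) = aC • pullBack (T := E) θ :=
      funext fun z => haC ⟨((z : E) : G), Subgroup.mem_subgroupOf.1 z.2⟩
    rw [hrf, classInner_smul_left, IsIrrCharacter.classInner_self hθE, mul_one] at ha
    subst ha
    have hξ1 : ξ 1 = (a : ℂ) * θ 1 := by simpa using haC 1
    have hind : Cfsg.indFun E ξ = Cfsg.classInner (Cfsg.indFun E ξ) χ • χ := by
      have hch := IsCharacter.indFun (G := G) (IsIrrCharacter.isCharacter hξ)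
      conv_lhs => rw [eq_sum_irr (IsCharacter.isClassFunction hch)]
      refine Finset.sum_eq_single χ (fun ψ hψ hne => ?_) (fun h => absurd (mem_irrFinset.2 hχ) h)
      by_cases h0 : Cfsg.classInner (Cfsg.indFun E ξ) ψ = 0
      · rw [h0, zero_smul]
      refine absurd (hfr ψ (mem_irrFinset.1 hψ) fun hz => ?_) hne
      have hc := (classInner_indFun_ne_zero_iff
        (IsIrrCharacter.isClassFunction (mem_irrFinset.1 hψ)) ξ).1 h0
      have hsub := IsCharacter.sub_irr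
        (IsCharacter.restrict (IsIrrCharacter.isCharacter (mem_irrFinset.1 hψ)) E) hξ hc
      obtain ⟨k₁, hk₁⟩ := IsCharacter.exists_classInner_eq_natCast
        (IsCharacter.comp (IsIrrCharacter.isCharacter hξ) (Subgroup.inclusion hZE)) hθ
      obtain ⟨k₂, hk₂⟩ := IsCharacter.exists_classInner_eq_natCast
        (IsCharacter.comp hsub (Subgroup.inclusion hZE)) hθ
      have h1 : Cfsg.classInner (fun z : Z => ψ z) θ = ((k₁ + k₂ : ℕ) : ℂ) := by
        rw [Nat.cast_add, ← hk₁, ← hk₂, ← classInner_add_left]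
        congr 1
        funext z
        simp
      rw [hz, eq_comm, Nat.cast_eq_zero] at h1
      have h3 : ((a : ℂ)) = (k₁ : ℂ) := by
        rw [← hk₁, show (fun z : Z => ξ (Subgroup.inclusion hZE z)) = (a : ℂ) • θ from funext haC,
          classInner_smul_left, IsIrrCharacter.classInner_self hθ, mul_one]
      rw [show k₁ = 0 by omega, Nat.cast_zero] at h3
      rw [h3, zero_mul] at hξ1
      exact IsIrrCharacter.apply_one_ne_zero hξ hξ1
    obtain ⟨c, hc⟩ := IsCharacter.exists_classInner_eq_natCast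
      (IsCharacter.indFun (G := G) (IsIrrCharacter.isCharacter hξ)) hχ
    have hdeg := congrFun hind 1
    rw [indFun_one, hξ1, Pi.smul_apply, smul_eq_mul, hc,
      show χ 1 = (e : ℂ) * θ 1 by simpa using hres 1, ← mul_assoc, ← mul_assoc] at hdeg
    have hdeg' := mul_right_cancel₀ (IsIrrCharacter.apply_one_ne_zero hθ) hdeg
    have hdiv : p ^ k ∣ a := by
      refine Nat.Coprime.dvd_of_dvd_mul_left ((hp.out.coprime_iff_not_dvd.2 hEi).pow_left k) ?_
      refine ⟨c * e', ?_⟩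
      have : E.index * a = c * e := by exact_mod_cast hdeg'
      rw [this, hek]; ring
    have hnorm : Cfsg.classInner (fun z : Z.subgroupOf E => ξ z) (fun z : Z.subgroupOf E => ξ z) =
        ((a ^ 2 : ℕ) : ℂ) := by
      rw [hrf, classInner_smul_left, classInner_smul_right, IsIrrCharacter.classInner_self hθE,
        Complex.conj_natCast]
      push_cast; ring
    have hle : a ^ 2 ≤ (p ^ k) ^ 2 := by
      have := norm_restrict_le hξ (Z.subgroupOf E) hnorm
      rwa [show (Z.subgroupOf E).index = (p ^ k) ^ 2 by rw [← hjk, ← hj]; rfl] at this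
    have ha0 : 0 < a := Nat.pos_of_ne_zero fun h => by
      rw [h, Nat.cast_zero, zero_mul] at hξ1
      exact IsIrrCharacter.apply_one_ne_zero hξ hξ1
    have haeq : a = p ^ k :=
      le_antisymm ((Nat.pow_le_pow_iff_left two_ne_zero).1 hle) (Nat.le_of_dvd ha0 hdiv)
    refine ⟨haeq ▸ hξ1, ?_⟩
    rw [classInner_indFun _ (IsIrrCharacter.isClassFunction hξ), ← classInner_conj, hrf,
      classInner_smul_left, IsIrrCharacter.classInner_self hθE, mul_one, Complex.conj_natCast, haeq]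
  refine ⟨k, hj.trans hjk, ⟨e', hek⟩, hEi, fun ξ hξ ho => (key ξ hξ ho).1, ?_⟩
  intro ξ ξ' hξ hξ' ho ho'
  obtain ⟨F, hF⟩ : ∃ F : E → ℂ, F = Cfsg.indFun (Z.subgroupOf E) (pullBack (T := E) θ) := ⟨_, rfl⟩
  have hFF : Cfsg.classInner F F = (((p ^ k) ^ 2 : ℕ) : ℂ) := by
    rw [hF, classInner_indFun_self_of_invariant hθE hIE, ← hjk, ← hj]
    rfl
  have hFξ : ∀ ζ : E → ℂ, Cfsg.IsIrrCharacter E ζ → Over θ (Subgroup.inclusion hZE) ζ →
      Cfsg.classInner F ζ = (p ^ k : ℕ) ∧ F = ((p ^ k : ℕ) : ℂ) • ζ := by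
    intro ζ hζ hζo
    have h1 : Cfsg.classInner F ζ = (p ^ k : ℕ) := hF ▸ (key ζ hζ hζo).2
    refine ⟨h1, sub_eq_zero.1 (classInner_self_eq_zero ?_)⟩
    rw [classInner_sub_left, classInner_sub_right, classInner_sub_right, classInner_smul_left,
      classInner_smul_left, classInner_smul_right, classInner_smul_right, hFF, h1,
      IsIrrCharacter.classInner_self hζ, ← classInner_conj F ζ, h1, Complex.conj_natCast]
    push_cast; ring
  have h0 : ((p ^ k : ℕ) : ℂ) ≠ 0 := by exact_mod_cast pow_ne_zero k hp.out.ne_zero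
  exact smul_right_injective (E → ℂ) h0 ((hFξ ξ hξ ho).2.symm.trans (hFξ ξ' hξ' ho').2)

/-- The Hall `p`-complement of the intermediate quotient. -/
theorem exists_complement (hθ : Cfsg.IsIrrCharacter Z θ) (hI : inertia θ = ⊤)
    (hχ : Cfsg.IsIrrCharacter G χ) (he : e ^ 2 = Z.index) (hres : ∀ z : Z, χ z = e * θ z)
    {K : Subgroup G} [K.Normal] (hZK : Z ≤ K) (P : Sylow p G) (E : Subgroup G) [Fintype E]
    (hE : Z ⊔ (P : Subgroup G) = E) (hZE : Z ≤ E)
    (hreg : ∀ η : K.subgroupOf E → ℂ, Cfsg.IsIrrCharacter (K.subgroupOf E) η →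
      Over θ (fun z : Z => (⟨Subgroup.inclusion hZE z, hZK z.2⟩ : K.subgroupOf E)) η →
      inertia η ≤ K.subgroupOf E) :
    ∃ S : Subgroup (G ⧸ K), S.index = p ^ (Nat.card (G ⧸ K)).factorization p := by
  classical
  obtain ⟨k, -, -, -, -, huniq⟩ := sylow_ramified hθ hI hχ he hres P E hE hZE
  obtain ⟨R, hR⟩ : ∃ R, (P : Subgroup G) ⊓ K = R := ⟨_, rfl⟩
  obtain ⟨L, hL⟩ : ∃ L, K ⊓ E = L := ⟨_, rfl⟩
  obtain ⟨N, hN⟩ : ∃ N, Subgroup.normalizer (L : Set G) = N := ⟨_, rfl⟩
  have hZL : Z ≤ L := hL ▸ le_inf hZK hZE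
  have hLE : L ≤ E := hL ▸ inf_le_right
  have hLK : L ≤ K := hL ▸ inf_le_left
  have hEN : E ≤ N := by
    intro x hx
    rw [← hN, ← hL, Subgroup.mem_normalizer_iff]
    intro g
    simp only [Subgroup.mem_inf]
    refine ⟨fun ⟨h1, h2⟩ => ⟨‹K.Normal›.conj_mem _ h1 x, E.mul_mem (E.mul_mem hx h2) (E.inv_mem hx)⟩,
      fun ⟨h1, h2⟩ => ⟨?_, ?_⟩⟩
    · simpa [mul_assoc] using ‹K.Normal›.conj_mem _ h1 x⁻¹
    · simpa [mul_assoc] using E.mul_mem (E.mul_mem (E.inv_mem hx) h2) hx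
  have hZN : Z ≤ N := hZE.trans hEN
  have hLN : L ≤ N := hLE.trans hEN
  have hZR : L = Z ⊔ R := by
    refine le_antisymm (fun y hy => ?_) (sup_le hZL (hR ▸ hL ▸ le_inf inf_le_right ?_))
    · rw [← hL, Subgroup.mem_inf] at hy
      have h2 : y ∈ ((Z ⊔ (P : Subgroup G) : Subgroup G) : Set G) := by rw [hE]; exact hy.2
      rw [Subgroup.normal_mul] at h2
      obtain ⟨z, hz, q, hq, rfl⟩ := Set.mem_mul.1 h2
      refine mul_mem (Subgroup.mem_sup_left hz) (Subgroup.mem_sup_right (hR ▸ Subgroup.mem_inf.2 ⟨hq, ?_⟩))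
      simpa using K.mul_mem (K.inv_mem (hZK hz)) hy.1
    · exact inf_le_left.trans (hE ▸ le_sup_right)
  -- `P ⊓ K` is a Sylow subgroup of `K`
  have hRK : ¬ p ∣ R.relIndex K := by
    rw [← hR, Subgroup.inf_relIndex_right]
    exact fun h => P.not_dvd_index (h.trans relIndex_dvd_index)
  have hKN : N ⊔ K = ⊤ := by
    have hpR : IsPGroup p (R.subgroupOf K) :=
      (P.isPGroup'.to_le (hR ▸ inf_le_left)).comap_subtype
    obtain ⟨RS, hRS⟩ : ∃ RS : Sylow p K, (RS : Subgroup K).map K.subtype = R :=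
      ⟨hpR.toSylow hRK, Subgroup.map_subgroupOf_eq_of_le (hR ▸ inf_le_right)⟩
    have h := Sylow.normalizer_sup_eq_top RS
    rw [hRS] at h
    refine top_le_iff.1 (h ▸ sup_le (le_trans ?_ le_sup_left) le_sup_right)
    have key : ∀ x ∈ Subgroup.normalizer (R : Set G), ∀ y ∈ L, x * y * x⁻¹ ∈ L := by
      intro x hx y hy
      have h1 : y ∈ ((Z ⊔ R : Subgroup G) : Set G) := by rw [← hZR]; exact hy
      rw [Subgroup.normal_mul] at h1
      obtain ⟨z, hz, q, hq, rfl⟩ := Set.mem_mul.1 h1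
      rw [hZR, show x * (z * q) * x⁻¹ = (x * z * x⁻¹) * (x * q * x⁻¹) by group]
      exact mul_mem (Subgroup.mem_sup_left (hZ.conj_mem z hz x))
        (Subgroup.mem_sup_right ((Subgroup.mem_normalizer_iff.1 hx q).1 hq))
    intro x hx
    rw [← hN, Subgroup.mem_normalizer_iff]
    intro y
    refine ⟨key x hx y, fun hy => ?_⟩
    simpa [mul_assoc] using key x⁻¹ (inv_mem hx) _ hy
  -- inside `N`
  haveI hLn : (L.subgroupOf N).Normal := by
    subst hN
    exact Subgroup.normal_in_normalizer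
  haveI := Fintype.ofFinite (Z.subgroupOf N)
  haveI := Fintype.ofFinite (E.subgroupOf N)
  haveI := Fintype.ofFinite (L.subgroupOf N)
  have hθN := isIrrCharacter_pullBack (T := N) hZN hθ
  have hIN : inertia (pullBack (T := N) θ) = ⊤ := inertia_eq_top fun x z => by
    exact congrFun ((mem_inertia θ (x : G)).1 (hI ▸ Subgroup.mem_top _))
      ⟨((z : N) : G), Subgroup.mem_subgroupOf.1 z.2⟩
  have hZLN : Z.subgroupOf N ≤ L.subgroupOf N := fun z hz => hZL hz
  have hZEN : Z.subgroupOf N ≤ E.subgroupOf N := fun z hz => hZE hz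
  obtain ⟨ι, hι⟩ : ∃ ι : L.subgroupOf N →* G, ∀ l, ι l = ((l : N) : G) :=
    ⟨N.subtype.comp (L.subgroupOf N).subtype, fun _ => rfl⟩
  have hΦ := IsCharacter.comp (IsIrrCharacter.isCharacter hχ) ι
  have hΦne : (fun l => χ (ι l)) ≠ 0 := fun h0 => IsIrrCharacter.apply_one_ne_zero hχ (by
    simpa using congrFun h0 1)
  obtain ⟨η, hη, hc⟩ := IsCharacter.exists_constituent hΦ hΦne
  obtain ⟨ho, -⟩ := over_constituent hθN (Subgroup.inclusion hZLN) hΦ
    ⟨(e : ℂ), fun z => by simp only [hι]; exact hres ⟨((z : N) : G), Subgroup.mem_subgroupOf.1 z.2⟩⟩ hη hc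
  have huN : ∀ ξ ξ' : E.subgroupOf N → ℂ, Cfsg.IsIrrCharacter (E.subgroupOf N) ξ →
      Cfsg.IsIrrCharacter (E.subgroupOf N) ξ' →
      Over (pullBack (T := N) θ) (Subgroup.inclusion hZEN) ξ →
      Over (pullBack (T := N) θ) (Subgroup.inclusion hZEN) ξ' → ξ = ξ' := by
    intro ξ ξ' hξ hξ' ⟨a, ha⟩ ⟨a', ha'⟩
    obtain ⟨φ, hφ⟩ : ∃ φ : E ≃* E.subgroupOf N, φ = (Subgroup.subgroupOfEquivOfLe hEN).symm := ⟨_, rfl⟩
    have heq : (fun v => ξ (φ v)) = fun v => ξ' (φ v) := by
      refine huniq _ _ (IsIrrCharacter.comp_surjective hξ φ.toMonoidHom φ.surjective)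
        (IsIrrCharacter.comp_surjective hξ' φ.toMonoidHom φ.surjective)
        ⟨a, fun z => ?_⟩ ⟨a', fun z => ?_⟩
      · rw [hφ]; exact ha ⟨⟨(z : G), hZN z.2⟩, z.2⟩
      · rw [hφ]; exact ha' ⟨⟨(z : G), hZN z.2⟩, z.2⟩
    funext v
    simpa using congrFun heq (φ.symm v)
  have hregN : ∀ x ∈ E.subgroupOf N, conjOn x η = η → x ∈ L.subgroupOf N := by
    intro x hx hxη
    obtain ⟨φ, hφs, hφ⟩ : ∃ φ : K.subgroupOf E →* L.subgroupOf N, Function.Surjective φ ∧
        ∀ v, (((φ v : L.subgroupOf N) : N) : G) = ((v : E) : G) := by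
      have hmem : ∀ v : K.subgroupOf E, ((v : E) : G) ∈ L := fun v => hL ▸ Subgroup.mem_inf.2 ⟨v.2, (v : E).2⟩
      refine ⟨{ toFun := fun v => ⟨⟨((v : E) : G), hLN (hmem v)⟩, hmem v⟩
                map_one' := rfl
                map_mul' := fun _ _ => rfl }, fun l => ?_, fun _ => rfl⟩
      exact ⟨⟨⟨((l : N) : G), hLE l.2⟩, hLK l.2⟩, rfl⟩
    obtain ⟨η', hη'def⟩ : ∃ η' : K.subgroupOf E → ℂ, ∀ v, η' v = η (φ v) := ⟨_, fun _ => rfl⟩
    have hη' : Cfsg.IsIrrCharacter (K.subgroupOf E) η' := by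
      rw [funext hη'def]; exact IsIrrCharacter.comp_surjective hη φ hφs
    obtain ⟨a, ha⟩ := ho
    have hxE : ((x : N) : G) ∈ E := hx
    have hle := hreg η' hη' ⟨a, fun z => by
      rw [hη'def]
      refine Eq.trans (congrArg η (Subtype.ext (Subtype.ext (hφ _)))) (ha ⟨⟨(z : G), hZN z.2⟩, z.2⟩)⟩
    have hxI : (⟨((x : N) : G), hxE⟩ : E) ∈ inertia η' := by
      rw [mem_inertia]
      funext v
      rw [conjOn_apply, hη'def, hη'def]
      refine Eq.trans (congrArg η (Subtype.ext (Subtype.ext ?_))) (congrFun hxη (φ v))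
      rw [hφ]
      simp only [Subgroup.coe_mul, Subgroup.coe_inv, hφ]
    exact hL ▸ Subgroup.mem_inf.2 ⟨hle hxI, hxE⟩
  have hrelE : (L.subgroupOf N).relIndex (E.subgroupOf N) = K.relIndex E := by
    rw [Subgroup.relIndex_subgroupOf hEN, ← hL, Subgroup.inf_relIndex_right]
  have hrelM : (L.subgroupOf N).relIndex (K.subgroupOf N) ∣ R.relIndex K := by
    have h1 : (L.subgroupOf N).relIndex (K.subgroupOf N) = L.relIndex (K ⊓ N) := by
      rw [← Subgroup.relIndex_subgroupOf (H := L) (inf_le_right : K ⊓ N ≤ N), Subgroup.inf_subgroupOf_right]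
    rw [h1]
    refine dvd_trans ?_ (Subgroup.relIndex_mul_relIndex R L K (hZR ▸ le_sup_right) hLK ▸ dvd_mul_left _ _)
    exact ⟨(K ⊓ N).relIndex K, (Subgroup.relIndex_mul_relIndex L (K ⊓ N) K (le_inf hLK hLN) inf_le_left).symm⟩
  have himage : E.map (QuotientGroup.mk' K) = (P : Subgroup G).map (QuotientGroup.mk' K) := by
    rw [← hE, Subgroup.map_sup, (Subgroup.map_eq_bot_iff _).2 ((QuotientGroup.ker_mk' K).symm ▸ hZK), bot_sup_eq]
  have hKE : K.relIndex E = p ^ (Nat.card (G ⧸ K)).factorization p := by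
    rw [← (P.mapSurjective (QuotientGroup.mk'_surjective K)).card_eq_multiplicity, Sylow.coe_mapSurjective,
      ← himage, ← Subgroup.relIndex_ker, QuotientGroup.ker_mk']
  have hcop : ((L.subgroupOf N).relIndex (E.subgroupOf N)).Coprime
      ((L.subgroupOf N).relIndex (K.subgroupOf N)) := by
    rw [hrelE, hKE]
    refine Nat.Coprime.pow_left _ (hp.out.coprime_iff_not_dvd.2 fun h => hRK (h.trans hrelM))
  haveI := Fintype.ofFinite N
  obtain ⟨S, hMS, hS⟩ := core hθN hIN (E.subgroupOf N) hZEN huN (fun z hz => hLE hz) hZLN hη ho hregN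
    (M := K.subgroupOf N) (fun z hz => hLK hz) hcop
  refine ⟨S.map ((QuotientGroup.mk' K).comp N.subtype), ?_⟩
  rw [Subgroup.index_map_eq S ?_ ?_, hS, hrelE, hKE]
  · intro q
    induction q using QuotientGroup.induction_on with | _ g =>
    have hg : g ∈ ((N ⊔ K : Subgroup G) : Set G) := by rw [hKN]; exact Subgroup.mem_top g
    rw [Subgroup.mul_normal] at hg
    obtain ⟨n, hn, y, hy, rfl⟩ := Set.mem_mul.1 hg
    exact ⟨⟨n, hn⟩, by
      show ((n : G) : G ⧸ K) = ((n * y : G) : G ⧸ K)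
      rw [QuotientGroup.mk_mul, (QuotientGroup.eq_one_iff y).2 hy, mul_one]⟩
  · intro n hn
    refine hMS ?_
    rw [MonoidHom.mem_ker, MonoidHom.comp_apply, QuotientGroup.mk'_apply, QuotientGroup.eq_one_iff] at hn
    exact hn

end CfsgLib.RamifiedSylow
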